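import Groth.Agent.Lib.AffPart25.Perfect
import Groth.Agent.Lib.AffPart25.Largest
import Groth.Agent.Lib.AlgGrpBasic19.Basic

/-!
# Surjective homomorphisms and Chevalley decompositions over a perfect field
-/

set_option autoImplicit false
set_option linter.style.haveILetI false
set_option backward.isDefEq.respectTransparency false
set_option backward.isDefEq.respectTransparency.types false
set_option maxSynthPendingDepth 3
universe u

open CategoryTheory CategoryTheory.Limits MonoidalCategory CartesianMonoidalCategory MonObj AlgebraicGeometry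

noncomputable section

namespace Groth.Agent.AffPartMap15

variable {k : Type u} [Field k]

/-- A normal subgroup maps onto a normal subgroup of a quotient. -/
theorem isNormalHom_image' {G Q N H : Over (Spec (CommRingCat.of k))} [GrpObj G] [GrpObj Q] [GrpObj N] [GrpObj H]
    [Smooth Q.hom] [Smooth H.hom] (q : G ⟶ Q) [IsMonHom q] [Surjective q.left] (i : N ⟶ G) (hi : AlgGrp.IsNormalHom i)
    (j : H ⟶ Q) [IsClosedImmersion j.left] (g : N ⟶ H) [Surjective g.left] (hg : g ≫ j = i ≫ q) :
    AlgGrp.IsNormalHom j := by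
  haveI : IsReduced (Q ⊗ H).left := by
    haveI : Smooth (Q ⊗ H).hom := by
      show Smooth (pullback.fst Q.hom H.hom ≫ Q.hom)
      infer_instance
    exact OrbitTop19.isReduced_of_smooth (Q ⊗ H).hom
  let c : Q ⊗ H ⟶ Q := fst Q H * (snd Q H ≫ j) * (fst Q H)⁻¹
  haveI : Surjective (q ⊗ₘ g).left := by
    rw [MonoidalCategory.tensorHom_def, Over.comp_left]
    haveI : Surjective (q ▷ N).left :=
      MorphismProperty.of_isPullback ((AbRigid.isPullback_whiskerRight q N).map (Over.forget _)) ‹Surjective q.left›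
    haveI : Surjective (Q ◁ g).left :=
      MorphismProperty.of_isPullback ((AbRigid.isPullback_whiskerLeft g Q).map (Over.forget _)) ‹Surjective g.left›
    infer_instance
  obtain ⟨n', hn'⟩ := hi (G ⊗ N) (fst G N) (snd G N)
  have hc : (q ⊗ₘ g) ≫ c = (n' ≫ g) ≫ j := by
    simp only [c, MonObj.comp_mul, GrpObj.comp_inv, tensorHom_fst, tensorHom_snd_assoc]
    rw [Category.assoc n', hg, ← Category.assoc n', ← hn', MonObj.mul_comp, MonObj.mul_comp, GrpObj.inv_comp,
      Category.assoc (snd G N) i q]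
  have hsub : Set.range c.left ⊆ Set.range j.left := by
    rintro _ ⟨z, rfl⟩
    obtain ⟨w, rfl⟩ := (q ⊗ₘ g).left.surjective z
    exact ⟨(n' ≫ g).left w, by rw [← Scheme.Hom.comp_apply, ← Scheme.Hom.comp_apply, ← Over.comp_left, ← Over.comp_left, hc]⟩
  obtain ⟨l, hl⟩ := RedSepLib.exists_lift_of_range_subset c.left j.left hsub
  let l' : Q ⊗ H ⟶ H := Over.homMk l (by rw [← Over.w j, reassoc_of% hl, Over.w c])
  have hl' : l' ≫ j = c := Over.OverMorphism.ext hl
  intro T t h
  refine ⟨lift t h ≫ l', ?_⟩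
  rw [Category.assoc, hl']
  simp only [c, MonObj.comp_mul, GrpObj.comp_inv, lift_fst, lift_snd_assoc]


/-- A point killed by a homomorphism is killed by every homomorphism killing the kernel. -/
theorem eq_of_kernel {N G Q X T : Over (Spec (CommRingCat.of k))} [GrpObj N] [GrpObj G] [GrpObj Q] [GrpObj X]
    {i : N ⟶ G} {q : G ⟶ Q} [IsMonHom q] (hk : AlgGrp.IsKernel i q) (φ : G ⟶ X) [IsMonHom φ] (h : i ≫ φ = 1)
    (a b : T ⟶ G) (e : a ≫ q = b ≫ q) : a ≫ φ = b ≫ φ := by
  have h1 : (a⁻¹ * b) ≫ q = toUnit T ≫ η[Q] := by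
    rw [MonObj.mul_comp, GrpObj.inv_comp, e, inv_mul_cancel, ← Hom.one_def]
  have h2 : (a⁻¹ * b) ≫ φ = 1 := by
    rw [← hk.lift_fst (a⁻¹ * b) (toUnit T) h1, Category.assoc, h, MonObj.comp_one]
  rw [MonObj.mul_comp, GrpObj.inv_comp, inv_mul_eq_one] at h2
  exact h2

/-- A surjective homomorphism maps the affine part onto the affine part. -/
theorem map_surjective [PerfectField k] {G' G N' A' N A : Over (Spec (CommRingCat.of k))} [GrpObj G'] [GrpObj G]
    [GrpObj N'] [GrpObj A'] [GrpObj N] [GrpObj A] [Smooth G'.hom] [QuasiCompact G'.hom] [Smooth G.hom]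
    [QuasiCompact G.hom] (f : G' ⟶ G) [IsMonHom f] [Surjective f.left]
    (i' : N' ⟶ G') [IsMonHom i'] [IsClosedImmersion i'.left] [Smooth N'.hom] [ConnectedSpace N'.left] [IsAffine N'.left]
    (hn' : AlgGrp.IsNormalHom i') (q' : G' ⟶ A') [IsMonHom q'] [Surjective q'.left] [Flat q'.left] [IsProper A'.hom]
    (hk' : AlgGrp.IsKernel i' q')
    (i : N ⟶ G) [IsMonHom i] [IsClosedImmersion i.left] [Smooth N.hom] [ConnectedSpace N.left] [IsAffine N.left]
    (q : G ⟶ A) [IsMonHom q] [IsProper A.hom] (hk : AlgGrp.IsKernel i q) [Surjective q.left] :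
    (∃ g : N' ⟶ N, IsMonHom g ∧ g ≫ i = i' ≫ f ∧ Surjective g.left) ∧
      (∃ h : A' ⟶ A, IsMonHom h ∧ q' ≫ h = f ≫ q ∧ Surjective h.left) := by
  haveI : Mono i := Over.mono_of_mono_left i
  haveI : IsMonHom (i' ≫ f) := inferInstance
  have h0 : (i' ≫ f) ≫ q = 1 := AffPart25.eq_one_of_affine_field ((i' ≫ f) ≫ q)
  have h1 : (i' ≫ f) ≫ q = toUnit N' ≫ η[A] := h0.trans Hom.one_def
  let g : N' ⟶ N := hk.lift (i' ≫ f) (toUnit N') h1
  have hg : g ≫ i = i' ≫ f := hk.lift_fst _ _ _
  haveI : IsMonHom g := by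
    refine ⟨?_, ?_⟩
    · rw [← cancel_mono i, Category.assoc, hg, IsMonHom.one_hom, IsMonHom.one_hom]
    · rw [← cancel_mono i, Category.assoc, hg, IsMonHom.mul_hom, Category.assoc, IsMonHom.mul_hom,
        tensorHom_comp_tensorHom_assoc, hg]
  haveI : QuasiCompact q'.left := AlgGrpBasic19.quasiCompact_left q'
  haveI : Epi q' := AlgGrpBasic19.epi_of_cover q'
  haveI : Flat (q' ▷ G').left :=
    MorphismProperty.of_isPullback ((AbRigid.isPullback_whiskerRight q' G').map (Over.forget _)) ‹Flat q'.left›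
  haveI : Surjective (q' ▷ G').left :=
    MorphismProperty.of_isPullback ((AbRigid.isPullback_whiskerRight q' G').map (Over.forget _)) ‹Surjective q'.left›
  haveI : QuasiCompact (q' ▷ G').left :=
    MorphismProperty.of_isPullback ((AbRigid.isPullback_whiskerRight q' G').map (Over.forget _)) ‹QuasiCompact q'.left›
  haveI : Flat (A' ◁ q').left :=
    MorphismProperty.of_isPullback ((AbRigid.isPullback_whiskerLeft q' A').map (Over.forget _)) ‹Flat q'.left›
  haveI : Surjective (A' ◁ q').left :=
    MorphismProperty.of_isPullback ((AbRigid.isPullback_whiskerLeft q' A').map (Over.forget _)) ‹Surjective q'.left›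
  haveI : QuasiCompact (A' ◁ q').left :=
    MorphismProperty.of_isPullback ((AbRigid.isPullback_whiskerLeft q' A').map (Over.forget _)) ‹QuasiCompact q'.left›
  haveI : Epi (q' ⊗ₘ q') := by
    haveI := AlgGrpBasic19.epi_of_cover (q' ▷ G')
    haveI := AlgGrpBasic19.epi_of_cover (A' ◁ q')
    rw [MonoidalCategory.tensorHom_def]
    infer_instance
  constructor
  · refine ⟨g, inferInstance, hg, ?_⟩
    haveI : QuasiCompact N'.hom := inferInstance
    haveI : QuasiCompact g.left := AlgGrpBasic19.quasiCompact_left g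
    haveI : IsReduced N'.left := OrbitTop19.isReduced_of_smooth N'.hom
    obtain ⟨K, _, j, g₀, hj, hg₀, hgj, hjc, hker, hgq, hgs⟩ := GrpGen20.exists_image g
    haveI := hj; haveI := hg₀; haveI := hjc; haveI := hgq; haveI := hgs
    haveI : LocallyOfFiniteType K.hom := by rw [← Over.w j]; infer_instance
    haveI : QuasiCompact K.hom := by rw [← Over.w j]; infer_instance
    haveI : IsReduced K.left := by
      haveI := CurveNF.isReduced_image g₀.left
      have hk0 : g₀.left.imageι.ker = ⊥ := by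
        rw [Scheme.Hom.imageι, Scheme.IdealSheafData.ker_subschemeι]
        exact hker
      haveI : IsIso g₀.left.imageι := IsClosedImmersion.isIso_iff_ker_eq_bot.mpr hk0
      exact isReduced_of_isOpenImmersion (inv g₀.left.imageι)
    haveI : Smooth K.hom := GrpSmooth19.smooth_of_isReduced K
    haveI : IsClosedImmersion (j ≫ i).left := inferInstanceAs (IsClosedImmersion (j.left ≫ i.left))
    have hsq : g₀ ≫ j ≫ i = i' ≫ f := by rw [← Category.assoc, hgj, hg]
    have hnK : AlgGrp.IsNormalHom (j ≫ i) := isNormalHom_image' f i' hn' (j ≫ i) g₀ hsq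
    obtain ⟨Q, _, π, hπm, hπf, hπs, hπq, -, hπk, hQl, hQq⟩ := AffPart25.exists_quotient_field' (j ≫ i) hnK
    haveI := hπm; haveI := hπf; haveI := hπs; haveI := hπq; haveI := hQl; haveI := hQq
    have hπ : (j ≫ i) ≫ π = 1 := hπk.w.trans Hom.one_def.symm
    have hkill : i' ≫ f ≫ π = 1 := by
      rw [← Category.assoc, ← hsq, Category.assoc, hπ, MonObj.comp_one]
    obtain ⟨h₀, hh₀⟩ := AlgGrpBasic19.exists_desc q' (f ≫ π) fun T a b e => eq_of_kernel hk' (f ≫ π) hkill a b e
    haveI : Surjective h₀.left := by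
      haveI : Surjective (q'.left ≫ h₀.left) := by rw [← Over.comp_left, hh₀, Over.comp_left]; infer_instance
      exact Surjective.of_comp q'.left h₀.left
    haveI : IsSeparated Q.hom := AbRigid.isSeparated_of_grpObj Q
    haveI : UniversallyClosed (h₀.left ≫ Q.hom) := by rw [Over.w]; infer_instance
    haveI : UniversallyClosed Q.hom := UniversallyClosed.of_comp_surjective h₀.left Q.hom
    haveI : IsProper Q.hom := {}
    have hi : i ≫ π = toUnit N ≫ η[Q] := (AffPart25.eq_one_of_affine_field (i ≫ π)).trans Hom.one_def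
    let l : N ⟶ K := hπk.lift i (toUnit N) hi
    have hl : l ≫ j = 𝟙 N := by
      rw [← cancel_mono i, Category.assoc, Category.id_comp]
      exact hπk.lift_fst _ _ _
    haveI : Surjective j.left := ⟨fun x => ⟨l.left x, by
      rw [← Scheme.Hom.comp_apply, ← Over.comp_left, hl]; rfl⟩⟩
    rw [show g.left = g₀.left ≫ j.left by rw [← Over.comp_left, hgj]]
    infer_instance
  · obtain ⟨h, hh⟩ := AlgGrpBasic19.exists_desc q' (f ≫ q) fun T a b e => eq_of_kernel hk' (f ≫ q)
      (by rw [← Category.assoc]; exact h0) a b e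
    refine ⟨h, ⟨?_, ?_⟩, hh, ?_⟩
    · rw [← IsMonHom.one_hom q', Category.assoc, hh, IsMonHom.one_hom]
    · rw [← cancel_epi (q' ⊗ₘ q'), ← IsMonHom.mul_hom_assoc q', hh, IsMonHom.mul_hom,
        tensorHom_comp_tensorHom_assoc, hh]
    · haveI : Surjective (q'.left ≫ h.left) := by rw [← Over.comp_left, hh, Over.comp_left]; infer_instance
      exact Surjective.of_comp q'.left h.left

end Groth.Agent.AffPartMap15
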